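import Cfsg.Agent.Mrg.Omega.OM.Lev.FixPt
import Cfsg.Agent.Mrg.Omega.OM.Lev.Low.Data
import Cfsg.Agent.Mrg.Omega.OM.Lev.Low.YNat

section


/-!
# THEOREM LAMBDA (helper417 #24622) for `q ≥ 4`: the interface

`GE T H X AA`, `XX X AA = C_X(⟨AA⟩)`.

* `Tp H X AA A W Z q` : `A ∈ AA` acts on `W ≤ Y0` as a full root group with commutator group `Z`, `|Z| = q ≥ 4`;
* `YX T H X AA N c E q` : the blocks of `H` on `C_X(⟨AA⟩)`: `YB T C_X(⟨AA⟩) N c`; `top`, `cen`; `typ` : the `Z` of a `Tp`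
  is one of the `E l`, `E l ∩ N l = 1`, `E l ≤ N m` for `m ≠ l`.
-/

set_option autoImplicit false

namespace Cfsg.Agent.Omega.NO3S.CaseLW.LamQ

open Subgroup Cfsg Cfsg.Agent.ZN Cfsg.Agent.ZN.ChoiceBase
open Cfsg.Agent.Omega.OM.GLev (GE Y0)
open Cfsg.Agent.Omega.OM.Lev.Low (YB)

universe u

variable {G : Type u} [Group G]

/-- `C_X(⟨AA⟩)` -/
def XX (X : Subgroup G) (AA : Set (Subgroup G)) : Subgroup G := X ⊓ centralizer ((sSup AA : Subgroup G) : Set G)

theorem mem_XX {X : Subgroup G} {AA : Set (Subgroup G)} {x : G} :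
    x ∈ XX X AA ↔ x ∈ X ∧ ∀ A ∈ AA, ∀ a ∈ A, a * x = x * a := by
  rw [XX, mem_inf]
  refine and_congr_right fun _ => ⟨fun h A hA a ha => ?_, fun h => ?_⟩
  · exact mem_centralizer_iff.1 h a ((le_sSup hA : A ≤ sSup AA) ha)
  · have h1 : sSup AA ≤ centralizer ({x} : Set G) := sSup_le fun A hA a ha => by
      rw [mem_centralizer_singleton_iff]
      exact h A hA a ha
    exact mem_centralizer_iff.2 fun a ha => mem_centralizer_singleton_iff.1 (h1 ha)

theorem XX_le (X : Subgroup G) (AA : Set (Subgroup G)) : XX X AA ≤ X := inf_le_left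

/-- `A` acts on `W ≤ Y0` as a full root group with commutator group `Z`. -/
structure Tp (H X : Subgroup G) (AA : Set (Subgroup G)) (A W Z : Subgroup G) (q : ℕ) : Prop where
  WY : W ≤ Y0 H X AA
  ZW : Z ≤ W
  com : ∀ a ∈ A, ∀ w ∈ W, a * w * a⁻¹ * w⁻¹ ∈ Z
  cen : ∀ a ∈ A, ∀ z ∈ Z, a * z = z * a
  free : ∀ a ∈ A, ∀ w ∈ W, w ∉ Z → a * w = w * a → ∀ u ∈ W, a * u = u * a
  sur : ∀ w ∈ W, w ∉ Z → ∀ z ∈ Z, ∃ a ∈ A, a * w * a⁻¹ * w⁻¹ = z
  cardW : Nat.card W = Nat.card Z * q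
  cardZ : Nat.card Z = q
  four : 4 ≤ q

/-- **The blocks of `H` on `C_X(⟨AA⟩)`.** -/
structure YX (T H X : Subgroup G) (AA : Set (Subgroup G)) {Λ : Type} (N c E : Λ → Subgroup G) (q : ℕ) : Prop where
  yb : YB T (XX X AA) N c
  /-- if all `N l` contain `Ω₁(Z(T))`, then `H` centralises it -/
  top : (∀ l, zc T ≤ N l) → H ≤ centralizer (zc T : Set G)
  /-- an element moved by the conjugates of the members of `AA` inside `C_X(⟨AA⟩)` only is in all `N l` -/
  cen : ∀ x ∈ XX X AA, (∀ A ∈ AA, ∀ a ∈ A, ∀ g ∈ H, g * a * g⁻¹ * x * (g * a * g⁻¹)⁻¹ * x⁻¹ ∈ XX X AA) →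
    ∀ l, x ∈ N l
  EN : ∀ l m, l ≠ m → E l ≤ N m
  E1 : ∀ l, ∀ x ∈ E l, x ∈ N l → x = 1
  typ : ∀ A ∈ AA, ∀ W Z : Subgroup G, Tp H X AA A W Z q → ∃ l, Z = E l

end Cfsg.Agent.Omega.NO3S.CaseLW.LamQ

end

section


/-!
# THEOREM LAMBDA for `q ≥ 4`: the natural instance of `YX`

`GE T H X AA`, `NatKM F T H V D k`, `V = ⟨Ω₁Z(T)^H⟩`, `M = natC_of ..`.

* `cent_mix` : an element of a member of `AA` which acts as `up ∘ b` centralises the `v ∈ V` with `b i = 0` or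
  `e v i 1 = 0` for all `i`;
* `line_XX`, `XX_line` : `V ∩ C_X(⟨AA⟩)` is the product of the lines;
* `exists_ld` : the input `LD` over `C_X(⟨AA⟩)`;
* `yx_nat` : **`YX T H X AA N c E q`**.
-/

set_option autoImplicit false
set_option linter.unusedSectionVars false

namespace Cfsg.Agent.Omega.NO3S.CaseLW.LamQ

open Subgroup Cfsg Cfsg.Agent.ZN Cfsg.Agent.ZN.ChoiceBase Cfsg.Agent.ZN.ChoiceSit
open Cfsg.Agent.Omega.NatPair (ap ap_zero' ap_one' ap_one ap_mul ext2 ap_inv_ap ap_inj)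
open Cfsg.Agent.Lib.SL2Mat
open Cfsg.Agent.Omega.SQ1.FFOne (MinH)
open Cfsg.Agent.Omega.NO3S.OneLine (NatC single_acts natC_of)
open Cfsg.Agent.Omega.NO3S.OneLine.NatC (acts_mul acts_inv acts_one acts_unique)
open Cfsg.Agent.Omega.OM.Lev.Nat (Wn mem_Wn Xn mem_Xn ap_z)
open Cfsg.Agent.Omega.OM.GNat (sl2_all cent_N exists_root)
open Cfsg.Agent.Omega.OM.GLev
open Cfsg.Agent.Omega.OM.Lev.Low
open Cfsg.Agent.Omega.FFThm (NatK NatKM ActsSL)
open Cfsg.Agent.Omega.SQ1.Bau (elem_comm elem_sq)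
open Cfsg.Agent.Omega.FrameFF (cv)

universe u

variable {G : Type u} [Group G] [Finite G] {F : Type} [Field F] {T H X : Subgroup G} {AA : Set (Subgroup G)} {k : ℕ}

section nat

variable [Finite F] [CharP F 2] (h : GE T H X AA) (N : NatKM F T H (zl T H) (cv T H) k) (hk : 0 < k)
include h N hk

/-- `V ∩ C_X(⟨AA⟩)` contains the product of the lines -/
theorem line_XX {v : G} (hv : v ∈ zl T H) (hl : ∀ i, N.e v i 1 = 0) : v ∈ XX X AA := by
  refine mem_XX.2 ⟨h.VX hv, fun A hA a ha => ?_⟩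
  by_cases hAQ : A ≤ o2 H
  · exact h.comm_Q a (hAQ ha) v hv
  · have hoff := h.offM hA hAQ
    obtain ⟨I, h1, h2⟩ := N.offM A (h.fam.le A hA) hoff
    exact (natC_of h.hm hk N.toNatK).cent_line h.hm (h.fam.le A hA) hoff.le h1 h2 hv hl ha

theorem cent_mix {A : Subgroup G} (hA : A ∈ AA) {a : G} (ha : a ∈ A) {b : Fin k → F}
    (hb : ActsSL N.e (zl T H) (cv T H) a fun i => up (b i)) {v : G} (hv : v ∈ zl T H)
    (hbv : ∀ i, b i = 0 ∨ N.e v i 1 = 0) : a * v = v * a := by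
  classical
  set M := natC_of h.hm hk N.toNatK with hM
  have haH : a ∈ H := h.TH (h.fam.le A hA ha)
  have key : ∀ s : Finset (Fin k), ∀ v ∈ zl T H, (∀ i, b i = 0 ∨ N.e v i 1 = 0) → (∀ i, i ∉ s → N.e v i = 0) →
      a * v = v * a := by
    intro s
    induction s using Finset.induction_on with
    | empty =>
      intro v hv _ h0
      exact hb.2 v ((N.ker v hv).1 (funext fun i => h0 i (Finset.notMem_empty i)))
    | insert i s his ih =>
      intro v hv hbv h0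
      obtain ⟨w, hw, hwe⟩ := exists_vec M i (N.e v i)
      have hwe' : N.e w i = N.e v i := hwe
      have hw0 : ∀ j, j ≠ i → N.e w j = 0 := hw.2
      have e1 : N.e (v * w⁻¹) = N.e v - N.e w := M.map_div hv hw.1
      have h1 : a * (v * w⁻¹) = v * w⁻¹ * a := by
        refine ih (v * w⁻¹) (mul_mem hv (inv_mem hw.1)) (fun j => ?_) fun j hj => ?_
        · by_cases hji : j = i
          · subst hji
            right
            rw [e1, Pi.sub_apply, hwe', sub_self]; rfl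
          · rcases hbv j with h2 | h2
            · exact Or.inl h2
            · right
              rw [e1, Pi.sub_apply, hw0 j hji, sub_zero, h2]
        · by_cases hji : j = i
          · subst hji
            rw [e1, Pi.sub_apply, hwe', sub_self]
          · rw [e1, Pi.sub_apply, hw0 j hji, sub_zero]
            exact h0 j fun hc => (Finset.mem_insert.1 hc).elim hji hj
      have h2 : a * w = w * a := by
        rcases hbv i with h3 | h3
        · exact cent_N M h.hm haH hb.1 hb.2 (i := i) (by rw [h3, up_zero]) hw.1 hw.2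
        · have h4 : w ∈ XX X AA := line_XX h N hk hw.1 fun j => by
            by_cases hji : j = i
            · subst hji; rw [hwe', h3]
            · rw [hw0 j hji]; rfl
          exact (mem_XX.1 h4).2 A hA a ha
      have c1 : Commute a (v * w⁻¹) := h1
      have c2 : Commute a w := h2
      have c3 := c1.mul_right c2
      rwa [inv_mul_cancel_right] at c3
  exact key Finset.univ v hv hbv fun i hi => absurd (Finset.mem_univ i) hi

/-- `T` normalises `C_X(⟨AA⟩)` -/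
theorem T_XX : T ≤ normalizer (XX X AA : Set G) := by
  intro t ht
  refine mem_normalizer_of_cj_le ?_
  rintro _ ⟨x, hx, rfl⟩
  obtain ⟨hxX, hxc⟩ := mem_XX.1 hx
  refine mem_XX.2 ⟨(mem_normalizer_iff.1 (h.norm (h.TH ht)) x).1 hxX, fun A hA a ha => ?_⟩
  have h2 : cj t⁻¹ A ∈ AA := h.fam.conj A hA t⁻¹ (h.norm (h.TH (inv_mem ht))) (by
    rintro _ ⟨a, ha, rfl⟩
    exact mul_mem (mul_mem (inv_mem ht) (h.fam.le A hA ha)) (inv_mem (inv_mem ht)))
  have h3 := hxc _ h2 (t⁻¹ * a * t) ⟨a, ha, by simp⟩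
  have h4 := congrArg (fun y => t * y * t⁻¹) h3
  simpa [mul_assoc] using h4

/-- `V ∩ C_X(⟨AA⟩)` lies in the product of the lines -/
theorem XX_line {A : Subgroup G} (hA : A ∈ AA) {j : Fin k}
    (hroot : ∀ c : F, ∃ a ∈ A, ActsSL N.e (zl T H) (cv T H) a (Pi.mulSingle j (up c))) {v : G} (hv : v ∈ zl T H)
    (hvZ : v ∈ XX X AA) (i : Fin k) : N.e v i 1 = 0 := by
  set M := natC_of h.hm hk N.toNatK with hM
  have hTH := h.TH
  have key : ∀ w ∈ zl T H, w ∈ XX X AA → N.e w j 1 = 0 := by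
    intro w hw hwZ
    obtain ⟨a, ha, ha1, -⟩ := hroot 1
    have h1 := (mem_XX.1 hwZ).2 A hA a ha
    have h2 := ha1 w hw j
    have h3 : a * w * a⁻¹ = w := by rw [h1]; group
    rw [h3, Pi.mulSingle_eq_same] at h2
    have h4 := congrFun h2 0
    rw [ap_zero'] at h4
    simpa using h4
  obtain ⟨t, ht, htr⟩ := N.trans i j
  have hmv : MvI M t i j := htr
  have h1 := key (t * v * t⁻¹) (M.Vn t (hTH ht) v hv)
    ((mem_normalizer_iff.1 (T_XX h N hk ht) v).1 hvZ)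
  exact (hmv.line hTH ht hv).1 h1

theorem XX_Y0 {x : G} (hx : x ∈ XX X AA) : x ∈ Y0 H X AA := h.mem_Y0_of (mem_XX.1 hx).1 (mem_XX.1 hx).2

theorem XX_comm {x y : G} (hx : x ∈ XX X AA) (hy : y ∈ XX X AA) : x * y = y * x :=
  h.Xc x (mem_XX.1 hx).1 y (mem_XX.1 hy).1

/-- the block: `⟨AA⟩` and the `g`-conjugates of the root elements of `A` at `j` -/
def Kb (M : NatC F T H (zl T H) (cv T H) k) (AA : Set (Subgroup G)) (A : Subgroup G) (j : Fin k) (g : G) : Subgroup G :=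
  sSup AA ⊔ closure {x | ∃ a ∈ A, (∃ c, Ons M j a (up c)) ∧ x = g * a * g⁻¹}

omit h N hk [Finite F] [CharP F 2] [Finite G] in
theorem Kb_le {M : NatC F T H (zl T H) (cv T H) k} {A : Subgroup G} {j : Fin k} {g : G} {K : Subgroup G}
    (h1 : sSup AA ≤ K) (h2 : ∀ a ∈ A, ∀ c, Ons M j a (up c) → g * a * g⁻¹ ∈ K) : Kb M AA A j g ≤ K := by
  refine sup_le h1 ?_
  rw [closure_le]
  rintro _ ⟨a, ha, ⟨c, hc⟩, rfl⟩
  exact h2 a ha c hc

omit h N hk [Finite F] [CharP F 2] [Finite G] in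
theorem mem_Kb {M : NatC F T H (zl T H) (cv T H) k} {A : Subgroup G} {j : Fin k} {g a : G} (ha : a ∈ A) {c : F}
    (hc : Ons M j a (up c)) : g * a * g⁻¹ ∈ Kb M AA A j g := mem_sup_right (subset_closure ⟨a, ha, ⟨c, hc⟩, rfl⟩)

theorem AA_le_T : sSup AA ≤ T := sSup_le h.fam.le

theorem T_AA {x y : G} (hx : x ∈ T) (hy : y ∈ sSup AA) : x * y * x⁻¹ ∈ sSup AA := by
  have h1 : sSup AA ≤ (sSup AA).comap (MulAut.conj x).toMonoidHom := by
    refine sSup_le fun A hA a ha => ?_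
    have h2 : cj x A ∈ AA := h.fam.conj A hA x (h.norm (h.TH hx)) (by
      rintro _ ⟨a, ha, rfl⟩
      exact mul_mem (mul_mem hx (h.fam.le A hA ha)) (inv_mem hx))
    exact (le_sSup h2 : cj x A ≤ sSup AA) ⟨a, ha, rfl⟩
  exact h1 hy

theorem XX_cent {a x : G} (ha : a ∈ sSup AA) (hx : x ∈ XX X AA) : a * x = x * a :=
  mem_centralizer_iff.1 hx.2 a ha

theorem cv_line {d : G} (hd : d ∈ cv T H) : d ∈ XX X AA := by
  set M := natC_of h.hm hk N.toNatK
  refine line_XX h N hk (M.DV hd) fun i => ?_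
  have h1 : N.e d = 0 := (N.ker d (M.DV hd)).2 hd
  rw [h1]; rfl

/-- **The input `LD` over `C_X(⟨AA⟩)`.** -/
theorem exists_ld' {A : Subgroup G} (hA : A ∈ AA) {j : Fin k}
    (hroot : ∀ c : F, ∃ a ∈ A, ActsSL N.e (zl T H) (cv T H) a (Pi.mulSingle j (up c))) {g : G}
    (hg : Ons (natC_of h.hm hk N.toNatK) j g (lo 1)) :
    LD (natC_of h.hm hk N.toNatK) (sSup AA) (XX X AA) (Kb (natC_of h.hm hk N.toNatK) AA A j g) j := by
  classical
  set M := natC_of h.hm hk N.toNatK with hM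
  have hTH := h.TH
  have hAT := h.fam.le A hA
  have hgH : g ∈ H := hg.1
  have hpH : ∀ a ∈ A, g * a * g⁻¹ ∈ H := fun a ha => mul_mem (mul_mem hgH (hTH (hAT ha))) (inv_mem hgH)
  have hpO : ∀ a ∈ A, ∀ c, Ons M j a (up c) → Ons M j (g * a * g⁻¹) (lo 1 * up c * (lo 1)⁻¹) :=
    fun a _ c hc => (hg.mul hc).mul hg.inv
  refine ⟨h.hm, AA_le_T h N hk, ?_, T_XX h N hk, ?_, fun b hb z hz => XX_cent h N hk hb hz,
    fun v hv => ⟨fun hvZ i => XX_line h N hk hA hroot hv hvZ i, fun h0 => line_XX h N hk hv h0⟩, ?_, le_sup_left,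
    ?_, ?_, ?_, ?_, ?_⟩
  · intro t ht
    refine mem_normalizer_of_cj_le ?_
    rintro _ ⟨y, hy, rfl⟩
    exact T_AA h N hk ht hy
  · exact PLocal.ThompsonJ.isElementaryAbelian_mono h.elem (XX_le X AA)
  · intro c
    obtain ⟨a, ha, ha1⟩ := hroot c
    exact ⟨a, (le_sSup hA : A ≤ sSup AA) ha, hTH (hAT ha), ha1⟩
  · exact Kb_le ((AA_le_T h N hk).trans hTH) fun a ha c _ => hpH a ha
  · -- `cD`
    intro l hl d hd
    have h1 : Kb M AA A j g ≤ centralizer ({d} : Set G) := by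
      refine Kb_le (fun a ha => ?_) fun a ha c hc => ?_
      · rw [mem_centralizer_singleton_iff]
        exact XX_cent h N hk ha (cv_line h N hk hd)
      · rw [mem_centralizer_singleton_iff]
        exact (hpO a ha c hc).2.2 d hd
    exact mem_centralizer_singleton_iff.1 (h1 hl)
  · -- `cov`
    obtain ⟨a1, ha1, ha1A⟩ := hroot 1
    have hO1 : Ons M j a1 (up 1) := ⟨hTH (hAT ha1), ha1A⟩
    refine sl2_all (fun B => ∃ l ∈ Kb M AA A j g, Ons M j l B) ?_ ?_ (fun c => ?_)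
      (A₀ := lo 1 * up 1 * (lo 1)⁻¹) ⟨_, mem_Kb ha1 hO1, hpO a1 ha1 1 hO1⟩ ?_
    · rintro A1 A2 ⟨l1, hl1, h1⟩ ⟨l2, hl2, h2⟩
      exact ⟨l1 * l2, mul_mem hl1 hl2, h1.mul h2⟩
    · rintro A1 ⟨l1, hl1, h1⟩
      exact ⟨l1⁻¹, inv_mem hl1, h1.inv⟩
    · obtain ⟨a, ha, haA⟩ := hroot c
      exact ⟨a, mem_sup_left ((le_sSup hA : A ≤ sSup AA) ha), hTH (hAT ha), haA⟩
    · rw [ent_mul, ent_mul, ent_mul, lo_inv]
      simp
  · -- `LW`
    intro l hl m hmj v hv
    have hvX : v ∈ XX X AA := line_XX h N hk hv.1 fun i => by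
      by_cases hi : i = m
      · subst hi; exact hv.2.2
      · have h1 : N.e v i = 0 := hv.2.1 i hi
        rw [h1]; rfl
    have h1 : Kb M AA A j g ≤ centralizer ({v} : Set G) := by
      refine Kb_le (fun a ha => ?_) fun a ha c hc => ?_
      · rw [mem_centralizer_singleton_iff]
        exact XX_cent h N hk ha hvX
      · rw [mem_centralizer_singleton_iff]
        have h2 := hpO a ha c hc
        exact cent_N M h.hm h2.1 h2.2.1 h2.2.2 (i := m) (Pi.mulSingle_eq_of_ne hmj _) hv.1 hv.2.1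
    exact mem_centralizer_singleton_iff.1 (h1 hl)
  · -- `split`
    intro z hz
    have hgi : g⁻¹ ∈ H := inv_mem hgH
    have hzY := XX_Y0 h N hk hz
    have hz1 : g⁻¹ * z * g⁻¹⁻¹ ∈ Y0 H X AA := (mem_normalizer_iff.1 (h.norm_Y0 hgi) z).1 hzY
    rw [inv_inv] at hz1
    obtain ⟨v, hv, hvc⟩ := h.Y0_comm hA hz1
    set v1 := g * v * g⁻¹ with hv1
    have hv1V : v1 ∈ zl T H := M.Vn g hgH v hv
    obtain ⟨n, hn, hn0⟩ := exists_line M j (M.nat.e v1 j 0 - M.nat.e v1 j 1)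
    have hnX : n ∈ XX X AA := line_XX h N hk hn.1 fun i => by
      by_cases hi : i = j
      · subst hi; exact hn.2.2
      · have h1 : N.e n i = 0 := hn.2.1 i hi
        rw [h1]; rfl
    -- `u = g⁻¹ (n⁻¹ v₁) g` has `e u j 1 = 0`
    set u := g⁻¹ * (v1 * n⁻¹) * g with hu
    have huV : u ∈ zl T H := by
      have := M.Vn g⁻¹ hgi _ (mul_mem hv1V (inv_mem hn.1))
      rwa [inv_inv] at this
    have huj : N.e u j 1 = 0 := by
      have e1 := hg.e_i huV
      have e2 : g * u * g⁻¹ = v1 * n⁻¹ := by rw [hu]; group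
      rw [e2, M.map_div hv1V hn.1] at e1
      have e3 := congrFun e1 0
      have e4 := congrFun e1 1
      rw [Pi.sub_apply, Pi.sub_apply, hn0, ap_zero'] at e3
      rw [Pi.sub_apply, Pi.sub_apply, hn.2.2, ap_one'] at e4
      simp only [lo_00, lo_01, lo_10, lo_11, one_mul, zero_mul, add_zero] at e3 e4
      have e5 : N.e u j 0 = M.nat.e v1 j 1 := by
        have : N.e u j 0 = M.nat.e u j 0 := rfl
        rw [this, ← e3]; ring
      have e6 : M.nat.e u j 0 = N.e u j 0 := rfl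
      rw [e6, e5] at e4
      have e7 : M.nat.e u j 1 = N.e u j 1 := rfl
      rw [e7] at e4
      have e8 : M.nat.e v1 j 1 + N.e u j 1 = M.nat.e v1 j 1 := by
        rw [← e4]; ring
      exact add_eq_left.1 e8
    have hXc := h.Xc
    have hcom : ∀ a ∈ A, ∀ c, Ons M j a (up c) → g * a * g⁻¹ * (z * n⁻¹) = z * n⁻¹ * (g * a * g⁻¹) := by
      intro a ha c hc
      have haC : a * u = u * a := by
        refine cent_mix h N hk hA ha (b := Pi.single j c) ?_ huV fun i => ?_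
        · rw [single_acts]; exact hc.2
        · by_cases hi : i = j
          · subst hi; exact Or.inr huj
          · exact Or.inl (Pi.single_eq_of_ne (M := fun _ => F) hi c)
      have e1 : a * (g⁻¹ * z * g) * a⁻¹ * (g⁻¹ * z * g)⁻¹ = a * v * a⁻¹ * v⁻¹ := hvc a ha
      -- `[a', z] = [a', v₁] = [a', n]`
      set a' := g * a * g⁻¹ with ha'
      have e2 : a' * z * a'⁻¹ * z⁻¹ = a' * v1 * a'⁻¹ * v1⁻¹ := by
        have h1 := congrArg (fun y => g * y * g⁻¹) e1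
        have h2 : g * (a * (g⁻¹ * z * g) * a⁻¹ * (g⁻¹ * z * g)⁻¹) * g⁻¹ = a' * z * a'⁻¹ * z⁻¹ := by
          rw [ha']; group
        have h3 : g * (a * v * a⁻¹ * v⁻¹) * g⁻¹ = a' * v1 * a'⁻¹ * v1⁻¹ := by
          rw [ha', hv1]; group
        rw [← h2, ← h3]; exact h1
      have e3 : a' * (v1 * n⁻¹) = v1 * n⁻¹ * a' := by
        have h1 := congrArg (fun y => g * y * g⁻¹) haC
        have h2 : g * (a * u) * g⁻¹ = a' * (v1 * n⁻¹) := by rw [ha', hu]; group
        have h3 : g * (u * a) * g⁻¹ = v1 * n⁻¹ * a' := by rw [ha', hu]; group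
        rw [← h2, ← h3]; exact h1
      -- all in `X`
      have hzX := (mem_XX.1 hz).1
      have hnX' := h.VX hn.1
      have hv1X := h.VX hv1V
      have ha'H : a' ∈ H := hpH a ha
      have hcX : ∀ x ∈ X, a' * x * a'⁻¹ ∈ X := fun x hx => (mem_normalizer_iff.1 (h.norm ha'H) x).1 hx
      have e4 : a' * (v1 * n⁻¹) * a'⁻¹ = v1 * n⁻¹ := by rw [e3]; group
      have e5 : a' * (z * n⁻¹) * a'⁻¹ = z * n⁻¹ := by
        have h1 : a' * z * a'⁻¹ = a' * v1 * a'⁻¹ * v1⁻¹ * z := by rw [← e2]; group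
        have h2 : a' * n⁻¹ * a'⁻¹ = (a' * v1 * a'⁻¹)⁻¹ * (v1 * n⁻¹) := by
          rw [← e4]; group
        have c1 := hXc _ (mul_mem (inv_mem hv1X) hzX) _ (inv_mem (hcX v1 hv1X))
        have c2 := hXc _ hzX _ hv1X
        calc a' * (z * n⁻¹) * a'⁻¹ = (a' * z * a'⁻¹) * (a' * n⁻¹ * a'⁻¹) := by group
          _ = (a' * v1 * a'⁻¹) * ((v1⁻¹ * z) * (a' * v1 * a'⁻¹)⁻¹) * (v1 * n⁻¹) := by rw [h1, h2]; group
          _ = (a' * v1 * a'⁻¹) * ((a' * v1 * a'⁻¹)⁻¹ * (v1⁻¹ * z)) * (v1 * n⁻¹) := by rw [c1]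
          _ = v1⁻¹ * (z * v1) * n⁻¹ := by group
          _ = v1⁻¹ * (v1 * z) * n⁻¹ := by rw [c2]
          _ = z * n⁻¹ := by group
      exact mul_inv_eq_iff_eq_mul.1 e5
    have hcX : z * n⁻¹ ∈ XX X AA := mul_mem hz (inv_mem hnX)
    refine ⟨z * n⁻¹, hcX, fun l hl => ?_, n, hn, by group⟩
    have h1 : Kb M AA A j g ≤ centralizer ({z * n⁻¹} : Set G) := by
      refine Kb_le (fun a ha => ?_) fun a ha c hc => ?_
      · rw [mem_centralizer_singleton_iff]
        exact XX_cent h N hk ha hcX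
      · rw [mem_centralizer_singleton_iff]
        exact hcom a ha c hc
    exact mem_centralizer_singleton_iff.1 (h1 hl)

omit h N hk [Finite F] [CharP F 2] [Finite G] in
/-- `[V, a]` -/
def Ea (M : NatC F T H (zl T H) (cv T H) k) (a : G) (ha : a ∈ H) : Subgroup G where
  carrier := {x | ∃ v ∈ zl T H, x = a * v * a⁻¹ * v⁻¹}
  mul_mem' := by
    rintro _ _ ⟨v, hv, rfl⟩ ⟨w, hw, rfl⟩
    refine ⟨v * w, mul_mem hv hw, ?_⟩
    have hlw : a * w * a⁻¹ ∈ zl T H := M.Vn a ha w hw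
    have e1 := M.Vcomm (mul_mem hlw (inv_mem hw)) (inv_mem hv)
    calc a * v * a⁻¹ * v⁻¹ * (a * w * a⁻¹ * w⁻¹) = a * v * a⁻¹ * (v⁻¹ * (a * w * a⁻¹ * w⁻¹)) := by group
      _ = a * v * a⁻¹ * (a * w * a⁻¹ * w⁻¹ * v⁻¹) := by rw [e1]
      _ = _ := by group
  one_mem' := ⟨1, one_mem _, by group⟩
  inv_mem' := by
    rintro _ ⟨v, hv, rfl⟩
    refine ⟨v⁻¹, inv_mem hv, ?_⟩
    have hlv : a * v⁻¹ * a⁻¹ ∈ zl T H := M.Vn a ha _ (inv_mem hv)
    have e1 := M.Vcomm hlv hv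
    calc (a * v * a⁻¹ * v⁻¹)⁻¹ = v * (a * v⁻¹ * a⁻¹) := by group
      _ = a * v⁻¹ * a⁻¹ * v := e1.symm
      _ = _ := by group

omit h N hk [Finite F] [CharP F 2] [Finite G] in
theorem mem_Ea {M : NatC F T H (zl T H) (cv T H) k} {a : G} {ha : a ∈ H} {x : G} :
    x ∈ Ea M a ha ↔ ∃ v ∈ zl T H, x = a * v * a⁻¹ * v⁻¹ := Iff.rfl

omit h N hk [Finite F] [CharP F 2] in
/-- the coordinates of `[v, a]` -/
theorem comm_e {M : NatC F T H (zl T H) (cv T H) k} {a : G} {l : Fin k} {c : F} (ha : Ons M l a (up c)) {v : G}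
    (hv : v ∈ zl T H) : (∀ m, m ≠ l → M.nat.e (a * v * a⁻¹ * v⁻¹) m = 0) ∧ M.nat.e (a * v * a⁻¹ * v⁻¹) l 1 = 0 ∧
      M.nat.e (a * v * a⁻¹ * v⁻¹) l 0 = c * M.nat.e v l 1 := by
  have hav := M.Vn a ha.1 v hv
  refine ⟨fun m hm => ?_, ?_, ?_⟩
  · rw [M.map_div hav hv, Pi.sub_apply, ha.e_m hv hm, sub_self]
  · rw [M.map_div hav hv, Pi.sub_apply, Pi.sub_apply, ha.e_i hv, ap_one']
    simp
  · rw [M.map_div hav hv, Pi.sub_apply, Pi.sub_apply, ha.e_i hv, ap_zero']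
    simp

omit h N hk [Finite F] [CharP F 2] in
theorem Ea_le_Li {M : NatC F T H (zl T H) (cv T H) k} {a : G} {l : Fin k} {c : F} (ha : Ons M l a (up c)) :
    Ea M a ha.1 ≤ Li M l := by
  rintro _ ⟨v, hv, rfl⟩
  obtain ⟨h1, h2, -⟩ := comm_e ha hv
  exact ⟨mul_mem (M.Vn a ha.1 v hv) (inv_mem hv), h1, h2⟩

/-- `v` with `e v l 1 = 0` is centralised by the root elements at `l` -/
theorem cent_root {A : Subgroup G} (hA : A ∈ AA) {a : G} (ha : a ∈ A) {l : Fin k} {c : F}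
    (hc : Ons (natC_of h.hm hk N.toNatK) l a (up c)) {v : G} (hv : v ∈ zl T H) (h0 : N.e v l 1 = 0) :
    a * v = v * a := by
  refine cent_mix h N hk hA ha (b := Pi.single l c) ?_ hv fun i => ?_
  · rw [single_acts]; exact hc.2
  · by_cases hi : i = l
    · subst hi; exact Or.inr h0
    · exact Or.inl (Pi.single_eq_of_ne (M := fun _ => F) hi c)

/-- **the `Z` of a `Tp` is `[V, a]`, `a` a root element** -/
theorem typ_nat {A : Subgroup G} (hA : A ∈ AA) {W Z : Subgroup G} {q : ℕ} (t : Tp H X AA A W Z q) :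
    ∃ l, ∃ a ∈ A, ∃ ha : Ons (natC_of h.hm hk N.toNatK) l a (up 1), Z = Ea (natC_of h.hm hk N.toNatK) a ha.1 := by
  classical
  set M := natC_of h.hm hk N.toNatK with hM
  have hTH := h.TH
  have hAT := h.fam.le A hA
  have hq := t.four
  have hWX : W ≤ X := t.WY.trans inf_le_left
  -- `w₀`, `z₁`
  obtain ⟨w0, hw0, hw0Z⟩ : ∃ w ∈ W, w ∉ Z := by
    by_contra hcon
    push Not at hcon
    have h1 := Subgroup.card_le_of_le (show W ≤ Z from hcon)
    rw [t.cardW, t.cardZ] at h1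
    nlinarith
  obtain ⟨z1, hz1, hz1n⟩ : ∃ z ∈ Z, z ≠ 1 := by
    by_contra hcon
    push Not at hcon
    have h1 : Z = ⊥ := (Subgroup.eq_bot_iff_forall Z).2 hcon
    have h2 := t.cardZ
    rw [h1, Subgroup.card_bot] at h2
    omega
  have hAQ : ¬ A ≤ o2 H := by
    intro hAQ
    obtain ⟨a, ha, e⟩ := t.sur w0 hw0 hw0Z z1 hz1
    have h1 := (mem_Y0.1 (t.WY hw0)).2 A hA hAQ a ha
    apply hz1n
    rw [← e, h1]; group
  obtain ⟨I, h1, h2⟩ := N.offM A hAT (h.offM hA hAQ)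
  obtain ⟨v0, hv0, hv0c⟩ := h.Y0_comm hA (t.WY hw0)
  obtain ⟨l, hlI, hl⟩ : ∃ l, l ∈ I ∧ N.e v0 l 1 ≠ 0 := by
    by_contra hcon
    push Not at hcon
    obtain ⟨a, ha, e⟩ := t.sur w0 hw0 hw0Z z1 hz1
    obtain ⟨b, hb0, hb⟩ := h1 a ha
    have h3 : a * v0 = v0 * a := cent_mix h N hk hA ha hb hv0 fun i => by
      by_cases hi : i ∈ I
      · exact Or.inr (hcon i hi)
      · exact Or.inl (hb0 i hi)
    apply hz1n
    rw [← e, hv0c a ha, h3]; group
  -- the root elements of `A` at `l`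
  have hroot : ∀ c : F, ∃ a ∈ A, Ons M l a (up c) := by
    intro c
    obtain ⟨a, ha, hb⟩ := h2 (Pi.single l c) fun i hi => Pi.single_eq_of_ne (M := fun _ => F)
      (fun e => hi (by rw [e]; exact hlI)) c
    rw [single_acts] at hb
    exact ⟨a, ha, hTH (hAT ha), hb⟩
  obtain ⟨a, ha, haO⟩ := hroot 1
  have haH := haO.1
  have hval : ∀ a' ∈ A, ∀ c, Ons M l a' (up c) → M.nat.e (a' * w0 * a'⁻¹ * w0⁻¹) l 0 = c * N.e v0 l 1 := by
    intro a' ha' c hc
    rw [hv0c a' ha']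
    exact (comm_e hc hv0).2.2
  have hne : a * w0 ≠ w0 * a := by
    intro e
    have h3 := hval a ha 1 haO
    have h4 : a * w0 * a⁻¹ * w0⁻¹ = 1 := by rw [e]; group
    rw [h4, M.map_one, one_mul] at h3
    exact hl h3.symm
  have haX : ∀ x ∈ X, a * x * a⁻¹ ∈ X := fun x hx => (mem_normalizer_iff.1 (h.norm haH) x).1 hx
  -- `Z = [W, a]`
  let f : ↥W →* G :=
    { toFun := fun w => a * w * a⁻¹ * (w : G)⁻¹
      map_one' := by simp
      map_mul' := by
        rintro ⟨w, hw⟩ ⟨w', hw'⟩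
        show a * (w * w') * a⁻¹ * (w * w')⁻¹ = a * w * a⁻¹ * w⁻¹ * (a * w' * a⁻¹ * w'⁻¹)
        have e := h.Xc _ (inv_mem (hWX hw)) _ (mul_mem (haX _ (hWX hw')) (inv_mem (hWX hw')))
        calc a * (w * w') * a⁻¹ * (w * w')⁻¹ = a * w * a⁻¹ * ((a * w' * a⁻¹ * w'⁻¹) * w⁻¹) := by group
          _ = a * w * a⁻¹ * (w⁻¹ * (a * w' * a⁻¹ * w'⁻¹)) := by rw [e]
          _ = _ := by group }
  have hf : ∀ w : ↥W, f w = a * w * a⁻¹ * (w : G)⁻¹ := fun w => rfl
  have hker : f.ker = Z.subgroupOf W := by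
    ext ⟨w, hw⟩
    rw [MonoidHom.mem_ker, mem_subgroupOf, hf]
    constructor
    · intro h3
      by_contra hwZ
      have h4 : a * w = w * a := mul_inv_eq_iff_eq_mul.1 (mul_inv_eq_one.1 h3)
      exact hne (t.free a ha w hw hwZ h4 w0 hw0)
    · intro h3
      have h4 := t.cen a ha w h3
      show a * w * a⁻¹ * w⁻¹ = 1
      rw [h4]; group
  have hran : f.range ≤ Z := by
    rintro _ ⟨⟨w, hw⟩, rfl⟩
    exact t.com a ha w hw
  have hc1 : Nat.card f.ker = Nat.card Z := by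
    rw [hker]
    exact Nat.card_congr (subgroupOfEquivOfLe t.ZW).toEquiv
  have hc2 := Subgroup.card_mul_index f.ker
  rw [Subgroup.index_ker, hc1, t.cardW] at hc2
  have hpos : 0 < Nat.card Z := Nat.card_pos
  have hc3 : Nat.card f.range = q := Nat.eq_of_mul_eq_mul_left hpos hc2
  have hZr : f.range = Z := Subgroup.eq_of_le_of_card_ge hran (by rw [hc3, t.cardZ])
  have hZE : Z ≤ Ea M a haH := by
    rw [← hZr]
    rintro _ ⟨⟨w, hw⟩, rfl⟩
    obtain ⟨v, hv, hvc⟩ := h.Y0_comm hA (t.WY hw)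
    exact ⟨v, hv, hvc a ha⟩
  -- `|[V, a]| ≤ |F|`
  have hE1 : Nat.card (Ea M a haH) ≤ Nat.card F := by
    refine Nat.card_le_card_of_injective (fun x : Ea M a haH => M.nat.e (x : G) l 0) ?_
    rintro ⟨_, v, hv, rfl⟩ ⟨_, v', hv', rfl⟩ e
    have e1 : M.nat.e (a * v * a⁻¹ * v⁻¹) l 0 = M.nat.e (a * v' * a⁻¹ * v'⁻¹) l 0 := e
    rw [(comm_e haO hv).2.2, (comm_e haO hv').2.2, one_mul, one_mul] at e1
    have h3 : a * (v * v'⁻¹) = v * v'⁻¹ * a := by
      refine cent_root h N hk hA ha haO (mul_mem hv (inv_mem hv')) ?_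
      have h4 : N.e (v * v'⁻¹) = N.e v - N.e v' := M.map_div hv hv'
      rw [h4, Pi.sub_apply, Pi.sub_apply]
      exact sub_eq_zero.2 e1
    have h5 : a * v * a⁻¹ * v⁻¹ = a * v' * a⁻¹ * v'⁻¹ := by
      have h6 : a * (v * v'⁻¹) * a⁻¹ = v * v'⁻¹ := by rw [h3]; group
      have c1 := M.Vcomm (mul_mem hv (inv_mem hv')) (M.Vn a haH v' hv')
      calc a * v * a⁻¹ * v⁻¹ = (a * (v * v'⁻¹) * a⁻¹) * (a * v' * a⁻¹) * v⁻¹ := by group
        _ = (v * v'⁻¹) * (a * v' * a⁻¹) * v⁻¹ := by rw [h6]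
        _ = (a * v' * a⁻¹) * (v * v'⁻¹) * v⁻¹ := by rw [c1]
        _ = (a * v' * a⁻¹) * (v * v'⁻¹ * v⁻¹) := by group
        _ = (a * v' * a⁻¹) * v'⁻¹ := by
          rw [M.Vcomm hv (inv_mem hv')]; group
    exact Subtype.ext h5
  -- `|F| ≤ |Z|`
  have hE2 : Nat.card F ≤ Nat.card Z := by
    choose r hr hrO using hroot
    refine Nat.card_le_card_of_injective (fun c : F => (⟨r c * w0 * (r c)⁻¹ * w0⁻¹, t.com (r c) (hr c) w0 hw0⟩ : Z)) ?_
    intro c c' e
    have e1 : r c * w0 * (r c)⁻¹ * w0⁻¹ = r c' * w0 * (r c')⁻¹ * w0⁻¹ := congrArg Subtype.val e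
    have e2 := hval (r c) (hr c) c (hrO c)
    have e3 := hval (r c') (hr c') c' (hrO c')
    rw [e1] at e2
    exact mul_right_cancel₀ hl (e2.symm.trans e3)
  exact ⟨l, a, ha, haO, Subgroup.eq_of_le_of_card_ge hZE (hE1.trans hE2)⟩

omit h N hk [Finite F] [CharP F 2] in
/-- `a` is a root element at `l` in some member of `AA` -/
def Good (M : NatC F T H (zl T H) (cv T H) k) (AA : Set (Subgroup G)) (l : Fin k) (a : G) : Prop :=
  (∃ A ∈ AA, a ∈ A) ∧ Ons M l a (up 1)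

open Classical in
omit h N hk [Finite F] [CharP F 2] in
/-- `[V, a]`, `a` a root element at `l` -/
noncomputable def EE (M : NatC F T H (zl T H) (cv T H) k) (AA : Set (Subgroup G)) (l : Fin k) : Subgroup G :=
  if hx : ∃ a, Good M AA l a then Ea M hx.choose hx.choose_spec.2.1 else ⊥

theorem Ea_eq {l : Fin k} {a a' : G} (ha : Ons (natC_of h.hm hk N.toNatK) l a (up 1))
    (ha' : Ons (natC_of h.hm hk N.toNatK) l a' (up 1)) :
    Ea (natC_of h.hm hk N.toNatK) a ha.1 = Ea (natC_of h.hm hk N.toNatK) a' ha'.1 := by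
  ext x
  rw [mem_Ea, mem_Ea]
  constructor
  · rintro ⟨v, hv, rfl⟩
    exact ⟨v, hv, by rw [ha.same h.hm ha' hv]⟩
  · rintro ⟨v, hv, rfl⟩
    exact ⟨v, hv, by rw [ha.same h.hm ha' hv]⟩

theorem EE_eq {l : Fin k} {a : G} (ha : Good (natC_of h.hm hk N.toNatK) AA l a) :
    EE (natC_of h.hm hk N.toNatK) AA l = Ea (natC_of h.hm hk N.toNatK) a ha.2.1 := by
  have hx : ∃ a, Good (natC_of h.hm hk N.toNatK) AA l a := ⟨a, ha⟩
  rw [EE, dif_pos hx]
  exact Ea_eq h N hk hx.choose_spec.2 ha.2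

/-- an element of `EE l` is `[v, a]`, `a` a root element at `l` -/
theorem exists_good {l : Fin k} {x : G} (hx : x ∈ EE (natC_of h.hm hk N.toNatK) AA l) :
    x = 1 ∨ ∃ a, ∃ ha : Good (natC_of h.hm hk N.toNatK) AA l a, x ∈ Ea (natC_of h.hm hk N.toNatK) a ha.2.1 := by
  by_cases hex : ∃ a, Good (natC_of h.hm hk N.toNatK) AA l a
  · obtain ⟨a, ha⟩ := hex
    rw [EE_eq h N hk ha] at hx
    exact Or.inr ⟨a, ha, hx⟩
  · rw [EE, dif_neg hex, mem_bot] at hx
    exact Or.inl hx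

/-- **THEOREM LAMBDA, `q ≥ 4`: natural type.** -/
theorem yx_nat (hex : ∃ A ∈ AA, ¬ A ≤ o2 H) (q : ℕ) : ∃ N' c E : Fin k → Subgroup G, YX T H X AA N' c E q := by
  classical
  obtain ⟨A, hA, hAQ⟩ := hex
  obtain ⟨j, hroot⟩ := exists_root h N hk hA hAQ
  obtain ⟨g, hgH, hg⟩ := N.lift (Pi.mulSingle j (lo 1))
  set M := natC_of h.hm hk N.toNatK with hM
  have hTH := h.TH
  have hgO : Ons M j g (lo 1) := ⟨hgH, hg⟩
  have hL := exists_ld' h N hk hA hroot hgO
  obtain ⟨c, hc⟩ := hL.exists_co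
  have hy := hL.yb_aux hc fun i s hs t ht hsm htm => cyc_line h.hm N hk hs hsm ht htm
  have hpO : ∀ a ∈ A, ∀ c, Ons M j a (up c) → Ons M j (g * a * g⁻¹) (lo 1 * up c * (lo 1)⁻¹) :=
    fun a _ c hc => (hgO.mul hc).mul hgO.inv
  refine ⟨_, c, EE M AA, hy, fun hl => ?_, fun x hx hcx i => ?_, fun l m hlm x hx => ?_, fun l x hx hxN => ?_,
    fun A' hA' W Z t => ?_⟩
  · -- `top`
    have hXn : Kb M AA A j g ≤ Xn M j ⊓ centralizer (cv T H : Set G) := by
      refine Kb_le (le_inf (sSup_le fun A' hA' a ha => ?_) ?_) fun a ha c hc => ?_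
      · have haH := hTH (h.fam.le A' hA' ha)
        by_cases hQ : A' ≤ o2 H
        · refine (mem_Xn M).2 ⟨haH, 1, fun v hv i => ?_, fun i _ => ⟨0, by rw [up_zero]; rfl⟩⟩
          rw [h.comm_Q a (hQ ha) v hv, mul_inv_cancel_right, Pi.one_apply, ap_one]
        · obtain ⟨I, h1, -⟩ := N.offM A' (h.fam.le A' hA') (h.offM hA' hQ)
          obtain ⟨b, -, hb⟩ := h1 a ha
          exact (mem_Xn M).2 ⟨haH, _, hb.1, fun i _ => ⟨b i, rfl⟩⟩
      · rw [le_centralizer_iff]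
        exact fun d hd => mem_centralizer_iff.2 fun a ha => XX_cent h N hk ha (cv_line h N hk hd)
      · have h1 := hpO a ha c hc
        refine mem_inf.2 ⟨(mem_Xn M).2 ⟨h1.1, _, h1.2.1, fun i hi => ⟨0, ?_⟩⟩, mem_centralizer_iff.2 fun d hd =>
          (h1.2.2 d hd).symm⟩
        rw [Pi.mulSingle_eq_of_ne hi, up_zero]
    have hsup := OM.GNat.le_sup h N hk hXn fun A₀ => by
      obtain ⟨l, hl, hlA⟩ := hL.cov A₀
      exact ⟨l, hl, fun v hv => hlA.e_i hv.1⟩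
    refine hsup.trans (sup_le (NO3S.Level.le_centralizer_zc T) fun l hl' => ?_)
    rw [mem_centralizer_iff]
    intro z hz
    have h1 := (mem_Ni.1 (hl j hz)).2 1 (one_mem _) (MvI.one j) l hl'
    simp only [inv_one, one_mul, mul_one] at h1
    exact h1.symm
  · -- `cen`
    obtain ⟨t, ht, htr⟩ := M.nat.trans j i
    have hm : MvI M t j i := htr
    refine hL.mem_Ni_of ht hm hx fun l hl => ?_
    have hx' := hL.conjZ' ht hx
    set x' := t⁻¹ * x * t with hx'e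
    have h1 : Kb M AA A j g ≤ centralizer ({x'} : Set G) := by
      refine Kb_le (fun a ha => ?_) fun a ha c hc => ?_
      · rw [mem_centralizer_singleton_iff]
        exact XX_cent h N hk ha hx'
      · rw [mem_centralizer_singleton_iff]
        have hO := hpO a ha c hc
        obtain ⟨c0, hc0, hc0L, n, hn, e0⟩ := hL.split x' hx'
        set a' := g * a * g⁻¹ with ha'
        have hc0a : a' * c0 = c0 * a' := hc0L a' (mem_Kb ha hc)
        have ha'H : a' ∈ H := hO.1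
        have hna : a' * n * a'⁻¹ ∈ zl T H := M.Vn a' ha'H n hn.1
        have hnX := (mem_XX.1 (hL.LiZ j hn)).1
        have hyV : a' * n * a'⁻¹ * n⁻¹ ∈ zl T H := mul_mem hna (inv_mem hn.1)
        have e1 : a' * x' * a'⁻¹ * x'⁻¹ = a' * n * a'⁻¹ * n⁻¹ := by
          have c1 := h.Xc _ (mem_XX.1 hc0).1 _ (mul_mem (h.VX hna) (inv_mem hnX))
          rw [e0]
          calc a' * (c0 * n) * a'⁻¹ * (c0 * n)⁻¹ = (a' * c0) * n * a'⁻¹ * n⁻¹ * c0⁻¹ := by group
            _ = (c0 * a') * n * a'⁻¹ * n⁻¹ * c0⁻¹ := by rw [hc0a]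
            _ = (c0 * (a' * n * a'⁻¹ * n⁻¹)) * c0⁻¹ := by group
            _ = ((a' * n * a'⁻¹ * n⁻¹) * c0) * c0⁻¹ := by rw [c1]
            _ = _ := by group
        have e2 : a' * x' * a'⁻¹ * x'⁻¹ ∈ XX X AA := by
          have h2 := hcx A hA a ha (t * g) (mul_mem (hTH ht) hgH)
          have h3 := hL.conjZ' ht h2
          have e3 : t⁻¹ * (t * g * a * (t * g)⁻¹ * x * (t * g * a * (t * g)⁻¹)⁻¹ * x⁻¹) * t =
              a' * x' * a'⁻¹ * x'⁻¹ := by rw [ha', hx'e]; group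
          rwa [e3] at h3
        rw [e1] at e2
        have e4 := (hL.mem _ hyV).1 e2 j
        rw [M.map_div hna hn.1, Pi.sub_apply, Pi.sub_apply, hO.e_i hn.1, ap_one', hn.2.2] at e4
        have e5 : ent (lo 1 * up c * (lo 1)⁻¹) 1 0 = -c := by
          rw [lo_inv, ent_mul, ent_mul, ent_mul]
          simp
        rw [e5] at e4
        have e6 : c * M.nat.e n j 0 = 0 := by
          have : -c * M.nat.e n j 0 = 0 := by simpa using e4
          rw [neg_mul, neg_eq_zero] at this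
          exact this
        have hna' : a' * n = n * a' := by
          rcases mul_eq_zero.1 e6 with h5 | h5
          · have h6 : Ons M j a' 1 := by
              have h7 := hO
              rw [h5, up_zero, mul_one, mul_inv_cancel] at h7
              exact h7
            have h7 : Ons M j (1 : G) 1 := by
              refine Ons.of (one_mem _) (fun v hv => ?_) (fun v hv m _ => ?_) fun d _ => ?_
              · rw [one_mul, inv_one, mul_one, ap_one]
              · rw [one_mul, inv_one, mul_one]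
              · rw [one_mul, mul_one]
            have h8 := h6.same h.hm h7 hn.1
            rw [one_mul, inv_one, mul_one] at h8
            exact mul_inv_eq_iff_eq_mul.1 h8
          · exact hL.cD a' (mem_Kb ha hc) n (Li_D hn h5)
        rw [e0]
        have c1 : Commute a' c0 := hc0a
        have c2 : Commute a' n := hna'
        exact (c1.mul_right c2).eq
    exact mem_centralizer_singleton_iff.1 (h1 hl)
  · -- `EN`
    have key : ∀ v ∈ Li M l, v ∈ Ni M (XX X AA) (Kb M AA A j g) j m := by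
      intro v hvL
      refine mem_Ni.2 ⟨hL.LiZ l hvL, fun t ht mt l' hl' => ?_⟩
      obtain ⟨i', hi'⟩ := MvI.ex M (inv_mem (hTH ht)) l
      have h2 : t⁻¹ * v * t ∈ Li M i' := by
        have := hi'.Li hTH (inv_mem ht) hvL
        rwa [inv_inv] at this
      refine hL.LW l' hl' i' (fun e => hlm ?_) _ h2
      subst e
      have h3 := hi'.inv (inv_mem (hTH ht))
      rw [inv_inv] at h3
      exact MvI.uniq h3 mt (hTH ht)
    rcases exists_good h N hk hx with h1 | ⟨a, ha, h1⟩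
    · rw [h1]; exact one_mem _
    · exact key x (Ea_le_Li ha.2 h1)
  · -- `E1`
    rcases exists_good h N hk hx with h1 | ⟨a, ha, h1⟩
    · exact h1
    · obtain ⟨t, ht, htr⟩ := M.nat.trans j l
      have hm : MvI M t j l := htr
      have h2 := (mem_Ni.1 hxN).2 t ht hm
      have hxL := Ea_le_Li ha.2 h1
      have h3 : t⁻¹ * x * t ∈ Li M j := by
        have := (hm.inv (hTH ht)).Li hTH (inv_mem ht) hxL
        rwa [inv_inv] at this
      have h4 := M.Dn t (hTH ht) _ (hL.Lj_D h3 h2)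
      have e : t * (t⁻¹ * x * t) * t⁻¹ = x := by group
      rw [e] at h4
      obtain ⟨v, hv, rfl⟩ := h1
      obtain ⟨⟨A', hA', ha'⟩, haO⟩ := ha
      have h5 := (comm_e haO hv).2.2
      rw [D_e h4, one_mul] at h5
      have h6 := cent_root h N hk hA' ha' haO hv h5.symm
      rw [h6]; group
  · -- `typ`
    obtain ⟨l, a, ha, haO, e⟩ := typ_nat h N hk hA' t
    exact ⟨l, e.trans (EE_eq h N hk (a := a) ⟨⟨A', hA', ha⟩, haO⟩).symm⟩

end nat

end Cfsg.Agent.Omega.NO3S.CaseLW.LamQ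

end
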