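import Cfsg.Agent.Mrg.Omega.NO3S.CaseLW.LamQ.ActNZ
import Cfsg.Agent.Mrg.Omega.NO3S.CaseLW.QWrel
import Cfsg.Agent.Mrg.Omega.OM.SwapT.QuietL

section


/-!
# `LowE` and `OffE` from THEOREM L(q) over the `T` which normalise all `Z l` (helper98, helper507)

`LamQ/ActNZ.lean` with the hypothesis `∀ i, T ≤ N(Z i)` (needed by THEOREM L(q), #26406): it is automatic for
`T ≤ C_G(D)`, if `D` meets every `Z l`.

* `norm_Z` : a 2-group `T ≥ B` which centralises `D` normalises all `Z i`;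
* `BestT h c` : `Y ∈ P(T)`, `B ≤ T ≤ N(Z i)` for all `i`, `Y ≤ C_G(c)`, characteristic 2, `lim S ≤ O₂(Y)`,
  `O₂(P) ≰ O₂(Y)`, `Y ≰ N(Z_J)`: some best offender `A ≤ T` on `⟨V_P^Y⟩` is not in `O₂(Y)`;
* `bestZ_of` : `BestT` for all `c ∈ Z_J` of full support gives `BestZ h.cl (C_G(D))`;
* `lowE_of_bestT`, `offE_of_bestT`.
-/

set_option autoImplicit false
set_option linter.unusedSectionVars false

namespace Cfsg.Agent.Omega.NO3S.CaseLW.LamQ.ActNT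

open Subgroup Cfsg Cfsg.Agent.ZN.ChoiceBase Cfsg.Agent.ZN.ChoiceSit
open Cfsg.Agent.ZN (jj zj bau zc zl o2)
open Cfsg.Agent.MinSimple.MinParabolic (IsMinPar)
open Cfsg.Agent.Omega.OM.Lev.Uni (FrL)
open Cfsg.Agent.Omega.NO1.BestOff (Best)
open Cfsg.Agent.Omega.NO3S.Level
open Cfsg.Agent.Omega.OM.SwapK (VF)
open Cfsg.Agent.Omega.Node.MulX (MulL)
open Cfsg.Agent.Omega.OM.SWT (nL LowW LowC OffC)
open Cfsg.Agent.Omega.NO3S.CaseLW.QWoFr (Z_C not_mem_C)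

universe u

variable {G : Type u} [Group G] [Finite G]
  {S : Sylow 2 G} {P B ZJ : Subgroup G} {k : ℕ} {L W Z C A : Fin k → Subgroup G} {q : ℕ}

/-- **a 2-group `T ≥ B` which centralises an element `≠ 1` of `Z i` normalises `Z i`** -/
theorem norm_Z_one (h : MulL S P B ZJ L W Z C A q) {T : Subgroup G} (hT : IsPGroup 2 T) (hB : B ≤ T)
    {i : Fin k} {z : G} (hz : z ∈ Z i) (hz1 : z ≠ 1) (hc : ∀ t ∈ T, t * z = z * t) :
    T ≤ normalizer (Z i : Set G) := by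
  intro t ht
  have htB : t ∈ normalizer (B : Set G) := h.lb.two_le hT hB ht
  obtain ⟨j, hj, -⟩ := (h.fr.norm_of htB (h.norm_le htB)).2 i
  have h1 : z ∈ Z j := by
    rw [← hj]
    refine ⟨z, hz, ?_⟩
    change t * z * t⁻¹ = z
    rw [hc t ht]
    group
  have h2 : j = i := by
    by_contra hne
    exact not_mem_C h.fr h1 hz1 (Z_C h.fr hne hz)
  rw [mem_normalizer_iff_cj, hj, h2]

theorem norm_Z (h : MulL S P B ZJ L W Z C A q) {D T : Subgroup G} (hD : ∀ l, ∃ z ∈ Z l, z ≠ 1 ∧ z ∈ D)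
    (hT : IsPGroup 2 T) (hB : B ≤ T) (hc : T ≤ centralizer (D : Set G)) (i : Fin k) :
    T ≤ normalizer (Z i : Set G) := by
  obtain ⟨z, hz, hz1, hzD⟩ := hD i
  exact norm_Z_one h hT hB hz hz1 fun t ht => (mem_centralizer_iff.1 (hc ht) z hzD).symm

/-- **THEOREM L(q) and the cut, as one statement** -/
def BestT (_h : MulL S P B ZJ L W Z C A q) (c : G) : Prop :=
  ∀ T Y : Subgroup G, Syl T Y → B ≤ T → IsMinPar T Y → Y ⊓ centralizer (o2 Y : Set G) ≤ o2 Y →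
    (∀ i, T ≤ normalizer (Z i : Set G)) → Y ≤ centralizer ({c} : Set G) → lim (S : Subgroup G) ≤ o2 Y →
    ¬ o2 P ≤ o2 Y → ¬ Y ≤ normalizer (ZJ : Set G) → ∃ A, A ≤ T ∧ Best (VF S P Y) A ∧ ¬ A ≤ o2 Y

/-- **`BestZ` over `C_G(D)`, `D` meets every `Z l`** -/
theorem bestZ_of (h : MulL S P B ZJ L W Z C A q) (ho : ∀ c ∈ ZJ, (∀ i, c ∉ C i) → BestT h c)
    {D : Subgroup G} (hD : D ≤ ZJ) (hm : ∀ l, ∃ z ∈ Z l, z ≠ 1 ∧ z ∈ D) :
    ActNZ.BestZ h.cl (centralizer (D : Set G)) := by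
  obtain ⟨c, hc, hcf⟩ := LowH.exists_full_of h hm
  intro T Y hT hB hP hch hYH hl hK hn
  have e : B = OM.SwapT.BT (S : Subgroup G) (o2 P) := by rw [h.eB, h.eZ]; rfl
  have eZ : ZJ = OM.SwapT.ZT (S : Subgroup G) (o2 P) := h.eZ
  rw [← eZ] at hn
  rw [← e] at hB
  exact ho c (hD hc) hcf T Y hT hB hP hch (norm_Z h hm hT.2.1 hB (hT.1.trans hYH))
    (hYH.trans (centralizer_le (Set.singleton_subset_iff.2 hc))) hl hK hn

/-- **`LowE`** -/
theorem lowE_of_bestT (h : MulL S P B ZJ L W Z C A q) (hq : 4 ≤ q)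
    (ho : ∀ c ∈ ZJ, (∀ i, c ∉ C i) → BestT h c) :
    ∀ D : Subgroup G, D ≤ ZJ → (∀ l, ∃ z ∈ Z l, z ≠ 1 ∧ z ∈ D) → LowW h.cl (centralizer (D : Set G)) :=
  ActNZ.lowE_of_bestZ h hq fun _ hD hm => bestZ_of h ho hD hm

/-- **`OffE`** -/
theorem offE_of_bestT (h : MulL S P B ZJ L W Z C A q) (ho : ∀ c ∈ ZJ, (∀ i, c ∉ C i) → BestT h c) :
    ∀ D : Subgroup G, D ≤ ZJ → (∀ l, ∃ z ∈ Z l, z ≠ 1 ∧ z ∈ D) →
      OffC h.cl (normalizer (ZJ : Set G)) (centralizer (D : Set G)) :=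
  ActNZ.offE_of_bestZ h fun _ hD hm => bestZ_of h ho hD hm

end Cfsg.Agent.Omega.NO3S.CaseLW.LamQ.ActNT

end

section


/-!
# RELATIVE QW: the plug into `ActNZ.BestZ` (`LowE`, `OffE`), from the family (helper291 #26899)

* `HFam h` : **socket** : `WQ S P T Y`, `B ≤ T`, `Y ≤ C(z l)`, `1 ≠ z l ∈ Z l` for all `l`, (neg): `⟨V_P^Y⟩ ≤ O₂(C_G(z m : m ≠ l))`;
* `best_S` : `T ≤ S`; `best_gen` : any 2-group `T ≥ B`;
* `bestZ_of_fam` : `ActNZ.BestZ h.cl (C(D))`, `D ≤ Z_J` meets every `Z l`;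
* `lowE_of_fam`, `offE_of_fam`.
-/

set_option autoImplicit false
set_option linter.unusedSectionVars false
set_option linter.dupNamespace false

namespace Cfsg.Agent.Omega.NO3S.CaseLW.QWrelPlug

open Subgroup Cfsg Cfsg.Agent.ZN.ChoiceBase Cfsg.Agent.ZN.ChoiceSit
open Cfsg.Agent.ZN (jj zj bau zc zl o2)
open Cfsg.Agent.MinSimple.MinParabolic (IsMinPar)
open Cfsg.Agent.MinSimple.VModule (oddGen)
open Cfsg.Agent.Omega.NO3b.EZero (cl oddGen_sup_syl)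
open Cfsg.Agent.Omega.OM.Lev.Uni (FrL)
open Cfsg.Agent.Omega.NO1.BestOff (Best)
open Cfsg.Agent.Omega.NO3S.Level
open Cfsg.Agent.Omega.NO3S.WY (WQ BB)
open Cfsg.Agent.Omega.NO3S.CaseLW.QWc (Neg)
open Cfsg.Agent.Omega.OM.SwapK (VF)
open Cfsg.Agent.Omega.OM.SwapT (BT ZT K_le wc lb norm_K)
open Cfsg.Agent.Omega.OM.SwapT.QuietL (isMinPar_cj best_cj exists_norm_B)
open Cfsg.Agent.Omega.Node.MulX (MulL)
open Cfsg.Agent.Omega.OM.SWT (nL LowW LowC OffC)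

universe u

variable {G : Type u} [Group G] [Finite G]
  {S : Sylow 2 G} {P B ZJ : Subgroup G} {k : ℕ} {L W Z C A : Fin k → Subgroup G} {q : ℕ}

/-- the elements `z m`, `m ≠ l` -/
def others (z : Fin k → G) (l : Fin k) : Set G := {x | ∃ m, m ≠ l ∧ z m = x}

/-- **Socket** (helper291 #26899 (1)-(3)) -/
def HFam (_h : MulL S P B ZJ L W Z C A q) : Prop :=
  ∀ T Y : Subgroup G, WQ S P T Y → B ≤ T → ∀ z : Fin k → G, (∀ l, z l ∈ Z l) → (∀ l, z l ≠ 1) →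
    (∀ l, Y ≤ centralizer ({z l} : Set G)) → Neg T Y (cl (zl (S : Subgroup G) P) Y) →
    ∀ l, cl (zl (S : Subgroup G) P) Y ≤ o2 (centralizer (others z l))

/-- **OffE / LowE for `T ≤ S`** -/
theorem best_S (h : MulL S P B ZJ L W Z C A q) (hf : HFam h) {T Y : Subgroup G} (hw : WQ S P T Y) (hB : B ≤ T)
    (hz : ∀ l, ∃ z ∈ Z l, z ≠ 1 ∧ Y ≤ centralizer ({z} : Set G)) (hn : ¬ Y ≤ normalizer (ZJ : Set G)) :
    ∃ A', A' ≤ T ∧ Best (VF S P Y) A' ∧ ¬ A' ≤ o2 Y := by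
  have eZ : ZJ = WY.ZJ (S : Subgroup G) P := h.eZ
  have eB : B = BB (S : Subgroup G) P := by rw [h.eB, eZ]
  have bg := h.bg
  have fr := h.fr
  rw [eB, eZ] at bg fr
  choose z hz1 hz2 hz3 using hz
  have hodd : ¬ oddGen Y ≤ centralizer (WY.ZJ (S : Subgroup G) P : Set G) := by
    intro h1
    apply hn
    rw [eZ, ← oddGen_sup_syl hw.syl]
    refine sup_le (h1.trans (centralizer_le_normalizer _)) ?_
    rw [← eZ]
    exact hw.TS.trans h.bg.SZJ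
  have hsub : ∀ l, others z l ⊆ (WY.ZJ (S : Subgroup G) P : Set G) := by
    rintro l _ ⟨m, -, rfl⟩
    exact fr.Z_le m (hz1 m)
  have hLc : ∀ l, L l ≤ centralizer (others z l) := by
    intro l x hx
    rw [mem_centralizer_iff]
    rintro _ ⟨m, hm, rfl⟩
    exact (fr.LC l x hx (z m) (fr.Z_le m (hz1 m)) (fr.WjC l m (Ne.symm hm) ((fr.blk m).ZV (hz1 m)))).symm
  obtain ⟨A', hA, hb, -, hn'⟩ := QWrel.exists_best_rel hw (eB ▸ hB) bg fr hodd fun neg l =>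
    ⟨centralizer (others z l), centralizer_le (hsub l), hLc l, hf T Y hw hB z hz1 hz2 hz3 neg l⟩
  exact ⟨A', hA, hb, hn'⟩

/-- **for every 2-group `T ≥ B`** -/
theorem best_gen (h : MulL S P B ZJ L W Z C A q) (hf : HFam h) {T F : Subgroup G} (hT : Syl T F) (hB : B ≤ T)
    (hmin : IsMinPar T F) (hc : F ⊓ centralizer (o2 F : Set G) ≤ o2 F)
    (hz : ∀ l, ∃ z ∈ Z l, z ≠ 1 ∧ F ≤ centralizer ({z} : Set G)) (hl : lim (S : Subgroup G) ≤ o2 F)
    (hn : ¬ o2 P ≤ o2 F) (hZ : ¬ F ≤ normalizer (ZJ : Set G)) :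
    ∃ A', A' ≤ T ∧ Best (VF S P F) A' ∧ ¬ A' ≤ o2 F := by
  have eBT : B = BT (S : Subgroup G) (o2 P) := by rw [h.eB, h.eZ]; rfl
  have hwc := h.cl.wc
  obtain ⟨g, hg, hle, -⟩ := exists_norm_B hwc h.cl.levQ hT.2.1 (eBT ▸ hB)
  have hgi : g⁻¹ ∈ normalizer (BT (S : Subgroup G) (o2 P) : Set G) := inv_mem hg
  have hgQ : cj g⁻¹ (o2 P) = o2 P := mem_normalizer_iff_cj.1 (norm_K hwc hgi)
  have hgV : cj g⁻¹ (zl (S : Subgroup G) P) = zl (S : Subgroup G) P :=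
    mem_normalizer_iff_cj.1 (h.cl.norm_o2_le (norm_K hwc hgi))
  have hgB : cj g⁻¹ (BT (S : Subgroup G) (o2 P)) = BT (S : Subgroup G) (o2 P) := mem_normalizer_iff_cj.1 hgi
  have hgl : cj g⁻¹ (lim (S : Subgroup G)) = lim (S : Subgroup G) :=
    OM.LevD.norm_of_wc (NO3S.Level.wc_lim S) (lb hwc).Bp (h.cl.lim_le.trans (K_le hwc)) hgi
  have ho2 : o2 (cj g⁻¹ F) = cj g⁻¹ (o2 F) := o2_cj _ _
  have hVF : VF S P (cj g⁻¹ F) = cj g⁻¹ (VF S P F) := by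
    have := NO3b.Exit.conj_V g⁻¹ (zl (S : Subgroup G) P) F
    rw [hgV] at this
    exact this.symm
  have hgZJ : g ∈ normalizer (ZJ : Set G) := by
    have h1 := (lb hwc).norm_B_le hg
    have eZ : ZJ = ZT (S : Subgroup G) (o2 P) := h.eZ
    rwa [eZ]
  have hnN : ¬ cj g⁻¹ F ≤ normalizer (ZJ : Set G) := by
    intro hle'
    apply hZ
    have := cj_mono g hle'
    rw [cj_cj_inv] at this
    exact this.trans (cj_eq_of_mem_normalizer (le_normalizer hgZJ)).le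
  have hTS : cj g⁻¹ T ≤ (S : Subgroup G) := by
    have := cj_mono g⁻¹ hle
    rwa [cj_inv_cj] at this
  have hBT' : BT (S : Subgroup G) (o2 P) ≤ cj g⁻¹ T := by
    have := cj_mono g⁻¹ (eBT ▸ hB : BT (S : Subgroup G) (o2 P) ≤ T)
    rwa [hgB] at this
  have hsy : Syl (cj g⁻¹ T) (cj g⁻¹ F) := NO1.JMin.syl_cj hT g⁻¹
  have hZJN : centralizer (zl (S : Subgroup G) P : Set G) ≤ normalizer (ZJ : Set G) :=
    (centralizer_le h.fr.ZJV).trans (centralizer_le_normalizer _)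
  have hwq : WQ S P (cj g⁻¹ T) (cj g⁻¹ F) :=
    { cl := h.cl
      TS := hTS
      QT := (K_le hwc).trans hBT'
      syl := hsy
      min := isMinPar_cj g⁻¹ hmin
      c2 := by
        rw [ho2]
        have := cj_mono g⁻¹ hc
        rwa [cj_inf, cj_centralizer] at this
      mvL := by
        intro hcon
        apply hnN
        rw [← oddGen_sup_syl hsy]
        exact sup_le (hcon.trans hZJN) (hTS.trans h.bg.SZJ)
      nQ := by
        intro hcon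
        apply hn
        rw [ho2] at hcon
        have := cj_mono g hcon
        rw [cj_cj_inv] at this
        refine le_trans (le_of_eq ?_) this
        rw [← hgQ, cj_cj_inv, hgQ]
      jY := by
        rw [ho2]
        refine ((NO3S.Level.lev_mono (S : Subgroup G) (Nat.zero_le _)).trans hgl.ge).trans (cj_mono g⁻¹ hl) }
  have hz' : ∀ l, ∃ z ∈ Z l, z ≠ 1 ∧ cj g⁻¹ F ≤ centralizer ({z} : Set G) := by
    intro l
    obtain ⟨j, hj, -⟩ := (h.bg.nrm g (by rw [eBT]; exact hg)).2 l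
    obtain ⟨z, hzj, hz1, hzF⟩ := hz j
    rw [← hj] at hzj
    refine ⟨g⁻¹ * z * g, mem_cj.1 hzj, fun h1 => hz1 ?_, ?_⟩
    · have h2 := congrArg (fun t => g * t * g⁻¹) h1
      simpa [mul_assoc] using h2
    · intro x hx
      rw [mem_cj, inv_inv] at hx
      have h1 := mem_centralizer_iff.1 (hzF hx) z rfl
      rw [mem_centralizer_iff]
      rintro _ rfl
      calc g⁻¹ * z * g * x = g⁻¹ * (z * (g * x * g⁻¹)) * g := by group
        _ = g⁻¹ * (g * x * g⁻¹ * z) * g := by rw [h1]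
        _ = x * (g⁻¹ * z * g) := by group
  obtain ⟨A', hA, hb, hnA⟩ := best_S h hf hwq (eBT ▸ hBT') hz' hnN
  refine ⟨cj g A', ?_, ?_, fun hcon => hnA ?_⟩
  · have := cj_mono g hA
    rwa [cj_cj_inv] at this
  · rw [hVF] at hb
    have h1 := best_cj g hb
    rwa [cj_cj_inv] at h1
  · rw [ho2]
    have := cj_mono g⁻¹ hcon
    rwa [cj_inv_cj] at this

/-- **`BestZ` from the family** -/
theorem bestZ_of_fam (h : MulL S P B ZJ L W Z C A q) (hf : HFam h) {D : Subgroup G}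
    (hm : ∀ l, ∃ z ∈ Z l, z ≠ 1 ∧ z ∈ D) : LamQ.ActNZ.BestZ h.cl (centralizer (D : Set G)) := by
  intro T Y hT hB hP hch hYH hl hK hn
  have eBT : B = BT (S : Subgroup G) (o2 P) := by rw [h.eB, h.eZ]; rfl
  have eZ : ZJ = ZT (S : Subgroup G) (o2 P) := h.eZ
  rw [← eZ] at hn
  refine best_gen h hf hT (by rw [eBT]; exact hB) hP hch (fun l => ?_) hl hK hn
  obtain ⟨z, hz, hz1, hzD⟩ := hm l
  exact ⟨z, hz, hz1, hYH.trans (centralizer_le (Set.singleton_subset_iff.2 hzD))⟩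

/-- **`LowE`** -/
theorem lowE_of_fam (h : MulL S P B ZJ L W Z C A q) (hq : 4 ≤ q) (hf : HFam h) :
    ∀ D : Subgroup G, D ≤ ZJ → (∀ l, ∃ z ∈ Z l, z ≠ 1 ∧ z ∈ D) → LowW h.cl (centralizer (D : Set G)) :=
  LamQ.ActNZ.lowE_of_bestZ h hq fun _ _ hm => bestZ_of_fam h hf hm

/-- **`OffE`** -/
theorem offE_of_fam (h : MulL S P B ZJ L W Z C A q) (hf : HFam h) :
    ∀ D : Subgroup G, D ≤ ZJ → (∀ l, ∃ z ∈ Z l, z ≠ 1 ∧ z ∈ D) →
      OffC h.cl (normalizer (ZJ : Set G)) (centralizer (D : Set G)) :=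
  LamQ.ActNZ.offE_of_bestZ h fun _ _ hm => bestZ_of_fam h hf hm

end Cfsg.Agent.Omega.NO3S.CaseLW.QWrelPlug

end
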